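import Groth.Agent.Sga4h.FinDVR

/-!
# Open-closed devissage for the direct images of one sheaf

* `cn_rpush_one`: a single-sheaf version of `Sga4h.FinD.cn_rpush`.
* `fin_of_finiteType`: `Fin n S` passes to schemes of finite type over `S`.
-/

set_option autoImplicit false
universe u
open CategoryTheory CategoryTheory.Limits AlgebraicGeometry Opposite

namespace Groth.Agent.Etdl.H434.Dev

open Groth.Agent.Sga4h Groth.Agent.Sga4h.WayOut Groth.Agent.Sga4h.ConsWO Groth.Agent.Sga4h.PushDer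
open Groth.Agent.Etrest Groth.Agent.Etrest.RDer3 Groth.Agent.Sga4h.FinD

attribute [local instance] HasDerivedCategory.standard

section One

variable {n : ℕ}
variable {X₁ X₀ X Y₀ Y : Scheme.{u}} (j : X₁ ⟶ X) [IsOpenImmersion j] (i : X₀ ⟶ X)
  [IsClosedImmersion i] (h : Set.range i = (Set.range j)ᶜ) (f : X ⟶ Y) (iY : Y₀ ⟶ Y)
  [IsClosedImmersion iY] (f₀ : X₀ ⟶ Y₀) (w : i ≫ f = f₀ ≫ iY)

include h w

/-- Open-closed devissage for the direct images of one sheaf. -/
theorem cn_rpush_one [IsLocallyNoetherian Y]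
    (h0 : ∀ G : EtCoh.Ab X₀, Cn n X₀ G → ∀ q : ℕ, Cn n Y₀ ((EtCoh.Rpush f₀ q).obj G))
    (M : EtCoh.Ab X) (hM : Cn n X M)
    (hJ : ∀ q : ℕ, Cn n X ((EtCoh.Rpush j q).obj ((EtCoh.pull j).obj M)))
    (h1 : ∀ q : ℕ, Cn n Y ((EtCoh.Rpush (j ≫ f) q).obj ((EtCoh.pull j).obj M))) (q : ℕ) :
    Cn n Y ((EtCoh.Rpush f q).obj M) := by
  refine OpenTri.rightDerived_of_triangle (EtCoh.pullPushAdj j) (fun N => ?_) (isKInjective_push j)
    (EtCoh.push f) (weakSerre_Cn n X) (weakSerre_Cn n Y) M hM hJ (fun q => ?_)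
    (fun N hN hN' q => cn_rpush_of_isZero j i h f iY f₀ w h0 N hN hN' q) q
  · have := Groth.Agent.Sga4h.EtaleRes.jCont j
    have h2 := Groth.Agent.Etcore.ShriekBasic.isIso_pullPushAdj_counit j
    infer_instance
  · exact Cn.iso ((LerayAcyc.rightDerivedCongr (EtCoh.pushComp f j) q).app _).symm (h1 q)

end One

/-- `Fin n S` passes to schemes of finite type over `S`. -/
theorem fin_of_finiteType {n : ℕ} {S Z : Scheme.{u}} (hS : FinDVR.Fin n S) (t : Z ⟶ S)
    [LocallyOfFiniteType t] [QuasiCompact t] : FinDVR.Fin n Z := by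
  intro X Y a b _ _ _ _ f w F hF q
  exact hS (a ≫ t) (b ≫ t) f (by rw [← Category.assoc, w]) F hF q

end Groth.Agent.Etdl.H434.Dev
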