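import Groth.Agent.Sga4h.FinDVR
import Mathlib.RingTheory.MvPowerSeries.Basic
import Mathlib.RingTheory.Localization.Away.Basic
import Mathlib.FieldTheory.IsAlgClosed.Basic
import Mathlib.Algebra.CharZero.Defs

/-!
# Finiteness over power series rings in characteristic zero: interface

`SP m K` is the spectrum of `K[[x_1, …, x_m]]`; `jg g : D(g) ⟶ Spec A`.
`FT m`: finiteness of direct images for schemes of finite type over `SP m K`, all fields `K`
of characteristic zero. `SO m`: the case of `D(g) ⟶ SP m K`. `FO m`: the case of the base changes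
`X_g ⟶ X` of `D(g) ⟶ SP m K`.
-/

set_option autoImplicit false
universe u
open CategoryTheory CategoryTheory.Limits AlgebraicGeometry Opposite

namespace Groth.Agent.Etdl.H434.Defs

open Groth.Agent.Sga4h.ConsWO

/-- `Spec K[[x_1, …, x_m]]`. -/
noncomputable abbrev SP (m : ℕ) (K : Type u) [Field K] : Scheme.{u} :=
  Spec (CommRingCat.of (MvPowerSeries (Fin m) K))

/-- The open immersion `D(g) ⟶ Spec A`. -/
noncomputable abbrev jg {A : Type u} [CommRing A] (g : A) :
    Spec (CommRingCat.of (Localization.Away g)) ⟶ Spec (CommRingCat.of A) :=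
  Spec.map (CommRingCat.ofHom (algebraMap A (Localization.Away g)))

/-- Finiteness of direct images over `K[[x_1, …, x_m]]`, `K` of characteristic zero. -/
def FT (m : ℕ) : Prop :=
  ∀ (K : Type u) [Field K] [CharZero K] (n : ℕ), 0 < n →
    Groth.Agent.Sga4h.FinDVR.Fin n (SP m K)

/-- Finiteness of direct images for `D(g) ⟶ Spec K[[x_1, …, x_m]]`. -/
def SO (m : ℕ) : Prop :=
  ∀ (K : Type u) [Field K] [CharZero K] (n : ℕ), 0 < n →
    ∀ g : MvPowerSeries (Fin m) K, g ≠ 0 →
    ∀ G : EtCoh.Ab (Spec (CommRingCat.of (Localization.Away g))), Cn n _ G →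
    ∀ q : ℕ, Cn n _ ((EtCoh.Rpush (jg g) q).obj G)

/-- Finiteness of direct images for the base changes of `D(g) ⟶ Spec K[[x_1, …, x_m]]`. -/
def FO (m : ℕ) : Prop :=
  ∀ (K : Type u) [Field K] [CharZero K] (n : ℕ), 0 < n →
    ∀ g : MvPowerSeries (Fin m) K, g ≠ 0 →
    ∀ ⦃X : Scheme.{u}⦄ (f : X ⟶ SP m K) [LocallyOfFiniteType f] [QuasiCompact f]
      (G : EtCoh.Ab (pullback f (jg g))), Cn n _ G →
    ∀ q : ℕ, Cn n X ((EtCoh.Rpush (pullback.fst f (jg g)) q).obj G)

end Groth.Agent.Etdl.H434.Defs
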