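import Groth.Agent.Etdl.H434.Emb
import Groth.Agent.EtpbcA.FinPush
import Groth.Agent.S0143
import Mathlib.RingTheory.Ideal.MinimalPrime.Noetherian

/-!
# Reduction of the constructibility of `R^q h_* G` to constant sheaves on integral finite `S`-schemes
-/

set_option autoImplicit false
universe u
open CategoryTheory CategoryTheory.Limits AlgebraicGeometry Opposite

namespace Groth.Agent.Etdl.H434.FinInd

open Groth.Agent.Sga4h.WayOut Groth.Agent.Sga4h.ConsWO Groth.Agent.Sga4h.PushDer Emb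

variable {n : ℕ}

theorem cn_const (T : Scheme.{u}) (M : Type) [AddCommGroup M] [Finite M] (hn : ∀ m : M, n • m = 0) :
    Cn n T (EtCoh.const T M) :=
  ⟨Groth.Agent.Etrest.ConstBasic.isConstructible_const T M, 1, by
    rw [pow_one]
    exact Groth.Agent.Etrest.ConstBasic.killedBy_const T M n hn⟩

/-- Finite direct images. -/
theorem cn_push_finite {X Y : Scheme.{u}} (f : X ⟶ Y) [IsFinite f] [IsLocallyNoetherian Y]
    {M : EtCoh.Ab X} (hM : Cn n X M) : Cn n Y ((EtCoh.push f).obj M) := by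
  have : LocallyOfFinitePresentation f := inferInstance
  refine ⟨Groth.Agent.EtpbcA.FinPush.isConstructible_push f M hM.1, hM.2.imp fun k hk => ?_⟩
  exact killedBy_iso ((rpushZeroIso f).app M) (killedBy_rpush f hk 0)

theorem isZero_rpush_finite {X Y : Scheme.{u}} (f : X ⟶ Y) [IsFinite f] (F : EtCoh.Ab X) (p : ℕ)
    (hp : 0 < p) : IsZero ((EtCoh.Rpush f p).obj F) :=
  (Groth.Agent.Etbase.FinLiftSch.refines_of_isFinite (f := f)).isZero_Rpush F p hp

/-- `R^q h_* (c_* F)`, `c` finite. -/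
noncomputable def rpushFinite {X Y Z : Scheme.{u}} (c : X ⟶ Y) [IsFinite c] (h : Y ⟶ Z)
    (F : EtCoh.Ab X) (q : ℕ) :
    (EtCoh.Rpush h q).obj ((EtCoh.push c).obj F) ≅ (EtCoh.Rpush (c ≫ h) q).obj F :=
  rpushCompIso c h F (fun p hp => isZero_rpush_finite c F p hp) q

/-- Integral closed subschemes of an affine Noetherian scheme covering it. -/
theorem exists_integral_cover (T : Scheme.{u}) [IsAffine T] [IsNoetherian T] :
    ∃ (r : ℕ) (Z : Fin r → Scheme.{u}) (c : ∀ i, Z i ⟶ T), (∀ i, IsClosedImmersion (c i)) ∧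
      (∀ i, IsIntegral (Z i)) ∧ ∀ x : T, ∃ (i : Fin r) (y : Z i), (c i) y = x := by
  have hN : IsNoetherianRing Γ(T, ⊤) := IsLocallyNoetherian.component_noetherian ⟨⊤, isAffineOpen_top T⟩
  have hfin : Finite (minimalPrimes Γ(T, ⊤)) := (minimalPrimes.finite_of_isNoetherianRing _).to_subtype
  obtain ⟨r, ⟨e⟩⟩ := Finite.exists_equiv_fin (minimalPrimes Γ(T, ⊤))
  have hp : ∀ p : minimalPrimes Γ(T, ⊤), p.1.IsPrime := fun p => p.2.1.1
  refine ⟨r, fun i => Spec (CommRingCat.of (Γ(T, ⊤) ⧸ (e.symm i).1)),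
    fun i => Spec.map (CommRingCat.ofHom (Ideal.Quotient.mk (e.symm i).1)) ≫ T.isoSpec.inv,
    fun i => ?_, fun i => ?_, fun x => ?_⟩
  · have : IsClosedImmersion (Spec.map (CommRingCat.ofHom (Ideal.Quotient.mk (e.symm i).1))) :=
      IsClosedImmersion.spec_of_surjective _ Ideal.Quotient.mk_surjective
    infer_instance
  · have := hp (e.symm i)
    have : IsDomain (Γ(T, ⊤) ⧸ (e.symm i).1) := inferInstance
    infer_instance
  · let y : PrimeSpectrum Γ(T, ⊤) := T.isoSpec.hom x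
    obtain ⟨p, hp1, hp2⟩ := Ideal.exists_minimalPrimes_le (I := ⊥) (J := y.asIdeal) bot_le
    refine ⟨e ⟨p, hp1⟩, ?_⟩
    change ∃ z : Spec (CommRingCat.of (Γ(T, ⊤) ⧸ (e.symm (e ⟨p, hp1⟩)).1)),
      (Spec.map (CommRingCat.ofHom (Ideal.Quotient.mk (e.symm (e ⟨p, hp1⟩)).1)) ≫ T.isoSpec.inv) z = x
    rw [e.symm_apply_apply]
    have h1 : y ∈ PrimeSpectrum.zeroLocus (p : Set Γ(T, ⊤)) := hp2
    have h2 : Set.range (PrimeSpectrum.comap (Ideal.Quotient.mk p)) = PrimeSpectrum.zeroLocus (p : Set Γ(T, ⊤)) := by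
      rw [range_comap_of_surjective _ _ Ideal.Quotient.mk_surjective, Ideal.mk_ker]
    rw [← h2] at h1
    obtain ⟨z, hz⟩ := h1
    refine ⟨z, ?_⟩
    rw [Scheme.Hom.comp_apply]
    have h3 : (Spec.map (CommRingCat.ofHom (Ideal.Quotient.mk p))) z = T.isoSpec.hom x := hz
    rw [h3, ← Scheme.Hom.comp_apply, Iso.hom_inv_id]
    rfl

/-- Constant sheaves on affine Noetherian schemes embed into a direct sum of direct images of constant sheaves
on integral closed subschemes. -/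
theorem exists_emb_const (T : Scheme.{u}) [IsAffine T] [IsNoetherian T] (M : Type) [AddCommGroup M] :
    ∃ (r : ℕ) (Z : Fin r → Scheme.{u}) (c : ∀ i, Z i ⟶ T) (_ : ∀ i, IsClosedImmersion (c i))
      (_ : ∀ i, IsIntegral (Z i))
      (ι : EtCoh.const T M ⟶ ⨁ fun i => (EtCoh.push (c i)).obj (EtCoh.const (Z i) M)), Mono ι := by
  obtain ⟨r, Z, c, h1, h2, h3⟩ := exists_integral_cover T
  refine ⟨r, Z, c, h1, h2, biproduct.lift (f := fun i => (EtCoh.push (c i)).obj
      ((EtCoh.pull (c i)).obj (EtCoh.const T M)))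
      (fun i => (EtCoh.pullPushAdj (c i)).unit.app _) ≫
      biproduct.map (fun i => (EtCoh.push (c i)).map (EtCore.pullConst (c i) M).hom), ?_⟩
  have h4 := mono_lift_unit c h3 (EtCoh.const T M)
  have h5 : IsIso (biproduct.map (f := fun i => (EtCoh.push (c i)).obj
      ((EtCoh.pull (c i)).obj (EtCoh.const T M))) (g := fun i => (EtCoh.push (c i)).obj
      (EtCoh.const (Z i) M)) (fun i => (EtCoh.push (c i)).map (EtCore.pullConst (c i) M).hom)) :=
    (biproduct.mapIso (f := fun i => (EtCoh.push (c i)).obj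
      ((EtCoh.pull (c i)).obj (EtCoh.const T M))) (g := fun i => (EtCoh.push (c i)).obj
      (EtCoh.const (Z i) M)) (fun i => (EtCoh.push (c i)).mapIso (EtCore.pullConst (c i) M))).isIso_hom
  exact @mono_comp _ _ _ _ _ _ h4 _ (@IsIso.mono_of_iso _ _ _ _ _ h5)

theorem card_nsmul (M : Type) [AddCommGroup M] [Finite M] (m : M) : Nat.card M • m = 0 :=
  card_nsmul_eq_zero'

theorem card_pos (M : Type) [AddCommGroup M] [Finite M] : 0 < Nat.card M := Nat.card_pos

variable {S Y : Scheme.{u}} [IsAffine S] [IsNoetherian S] [IsLocallyNoetherian Y] (h : S ⟶ Y)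

include h in
/-- Reduction to constant sheaves on integral finite `S`-schemes. -/
theorem cn_rpush_finite
    (core : ∀ (Z : Scheme.{u}) [IsIntegral Z] (t : Z ⟶ S) [IsFinite t] (M : Type) [AddCommGroup M] [Finite M]
      (n : ℕ), 0 < n → (∀ m : M, n • m = 0) → ∀ q : ℕ,
      Cn n Y ((EtCoh.Rpush (t ≫ h) q).obj (EtCoh.const Z M))) (q : ℕ) :
    ∀ (T : Scheme.{u}) (t : T ⟶ S) [IsFinite t] (n : ℕ), 0 < n → ∀ G : EtCoh.Ab T, Cn n T G →
      Cn n Y ((EtCoh.Rpush (t ≫ h) q).obj G) := by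
  have noeth : ∀ (T : Scheme.{u}) (t : T ⟶ S) [IsFinite t], IsAffine T ∧ IsNoetherian T := by
    intro T t _
    have h1 : IsAffine T := isAffine_of_isAffineHom t
    have h2 : IsLocallyNoetherian T := LocallyOfFiniteType.isLocallyNoetherian t
    exact ⟨h1, { }⟩
  -- the inductive step, from an embedding
  have step : ∀ (q : ℕ) (ih : ∀ p, p + 1 = q → ∀ (T : Scheme.{u}) (t : T ⟶ S) [IsFinite t] (n : ℕ),
      0 < n → ∀ G : EtCoh.Ab T, Cn n T G → Cn n Y ((EtCoh.Rpush (t ≫ h) p).obj G))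
      (T : Scheme.{u}) (t : T ⟶ S) [IsFinite t] (n : ℕ) (hn : 0 < n) (G : EtCoh.Ab T) (hG : Cn n T G)
      (r : ℕ) (Z : Fin r → Scheme.{u}) (c : ∀ i, Z i ⟶ T) [∀ i, IsFinite (c i)] (M : Fin r → Type)
      [∀ i, AddCommGroup (M i)] [∀ i, Finite (M i)]
      (ι : G ⟶ ⨁ fun i => (EtCoh.push (c i)).obj (EtCoh.const (Z i) (M i))) [Mono ι]
      (hc : ∀ i (m : ℕ), 0 < m → (∀ x : M i, m • x = 0) →
        Cn m Y ((EtCoh.Rpush (c i ≫ t ≫ h) q).obj (EtCoh.const (Z i) (M i)))),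
      Cn n Y ((EtCoh.Rpush (t ≫ h) q).obj G) := by
    intro q ih T t _ n hn G hG r Z c _ M _ _ ι _ hc
    obtain ⟨hT1, hT2⟩ := noeth T t
    let N : ℕ := n * ∏ i, Nat.card (M i)
    have hN : 0 < N := Nat.mul_pos hn (Finset.prod_pos fun i _ => card_pos (M i))
    have hNM : ∀ i (x : M i), N • x = 0 := by
      intro i x
      obtain ⟨d, hd⟩ : Nat.card (M i) ∣ N :=
        (Finset.dvd_prod_of_mem (fun i => Nat.card (M i)) (Finset.mem_univ i)).mul_left n
      rw [hd, mul_comm, mul_smul, card_nsmul, smul_zero]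
    have hGN : Cn N T G := Cn.of_dvd (Dvd.intro _ rfl) hG
    have hP : Cn N T (⨁ fun i => (EtCoh.push (c i)).obj (EtCoh.const (Z i) (M i))) :=
      Emb.biproduct (weakSerre_Cn N T) (fun ι _ => Cn.of_mono ι) _
        (fun i => cn_push_finite (c i) (cn_const (Z i) (M i) (hNM i)))
    refine cn_rpush_of_dvd (t ≫ h) hG q (m := N) ?_
    refine cn_rpush_of_mono (t ≫ h) ι q (fun p hp => ?_) ?_
    · exact ih p hp T t N hN _ ((weakSerre_Cn N T).coker ι hGN hP)
    · exact cn_rpush_biproduct (t ≫ h) _ q fun i =>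
        Cn.iso (rpushFinite (c i) (t ≫ h) (EtCoh.const (Z i) (M i)) q).symm (hc i N hN (hNM i))
  have main : ∀ (q : ℕ) (ih : ∀ p, p + 1 = q → ∀ (T : Scheme.{u}) (t : T ⟶ S) [IsFinite t] (n : ℕ),
      0 < n → ∀ G : EtCoh.Ab T, Cn n T G → Cn n Y ((EtCoh.Rpush (t ≫ h) p).obj G)),
      ∀ (T : Scheme.{u}) (t : T ⟶ S) [IsFinite t] (n : ℕ), 0 < n → ∀ G : EtCoh.Ab T, Cn n T G →
        Cn n Y ((EtCoh.Rpush (t ≫ h) q).obj G) := by
    intro q ih
    have hconst : ∀ (T : Scheme.{u}) (t : T ⟶ S) [IsFinite t] (M : Type) [AddCommGroup M] [Finite M]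
        (n : ℕ), 0 < n → (∀ m : M, n • m = 0) →
        Cn n Y ((EtCoh.Rpush (t ≫ h) q).obj (EtCoh.const T M)) := by
      intro T t _ M _ _ n hn hM
      obtain ⟨hT1, hT2⟩ := noeth T t
      obtain ⟨r, Z, c, h1, h2, ι, hι⟩ := exists_emb_const T M
      refine step q ih T t n hn _ (cn_const T M hM) r Z c (fun _ => M) ι (fun i m hm hM' => ?_)
      rw [← Category.assoc]
      exact core (Z i) (c i ≫ t) M m hm hM' q
    intro T t _ n hn G hG
    obtain ⟨hT1, hT2⟩ := noeth T t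
    obtain ⟨r, Z, c, h1, M, h2, h3, hι⟩ := Groth.Agent.S0143.result T G hG.1
    obtain ⟨ι, hι⟩ := hι
    refine step q ih T t n hn G hG r Z c M ι (fun i m hm hM' => ?_)
    rw [← Category.assoc]
    exact hconst (Z i) (c i ≫ t) (M i) m hm hM'
  induction q with
  | zero => exact main 0 (fun p hp => absurd hp (Nat.succ_ne_zero p))
  | succ q ih =>
    refine main (q + 1) (fun p hp => ?_)
    obtain rfl : p = q := Nat.succ.inj hp
    exact ih

/-- Reduction to constant sheaves on integral finite `S`-schemes. -/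
theorem cn_rpush
    (core : ∀ (Z : Scheme.{u}) [IsIntegral Z] (t : Z ⟶ S) [IsFinite t] (M : Type) [AddCommGroup M] [Finite M]
      (n : ℕ), 0 < n → (∀ m : M, n • m = 0) → ∀ q : ℕ,
      Cn n Y ((EtCoh.Rpush (t ≫ h) q).obj (EtCoh.const Z M))) (q n : ℕ) (hn : 0 < n) (G : EtCoh.Ab S)
    (hG : Cn n S G) : Cn n Y ((EtCoh.Rpush h q).obj G) := by
  have := cn_rpush_finite h core q S (𝟙 S) n hn G hG
  rwa [Category.id_comp] at this

end Groth.Agent.Etdl.H434.FinInd
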