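import Groth.Agent.Etdl.H434.Dev
import Groth.Agent.Etdl.H434.FinInd
import Groth.Agent.Etdl.H434.Defs
import Groth.Agent.Sga4h.GSqEt
import Groth.Agent.Etbase.StalkPush

/-!
# The devissage `C[1/w] ⊂ C` for constant sheaves

* `cn_of_cn_push`: finite direct images detect `Cn n`.
* `cn_core`: `R^q (Spec C ⟶ Spec A)_* M` for `C` finite over `A[1/g]`, from the case of `C[1/w]` and
  the finiteness over `A / w`.
* `cn_of_factor`: the case where `Spec C ⟶ Spec A` factors through `Spec A / h`.
-/

set_option autoImplicit false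
universe u
open CategoryTheory CategoryTheory.Limits AlgebraicGeometry Opposite

namespace Groth.Agent.Etdl.H434.Core

open Groth.Agent.Sga4h Groth.Agent.Sga4h.WayOut Groth.Agent.Sga4h.ConsWO Groth.Agent.Sga4h.PushDer
open Groth.Agent.Sga4h.FinD Emb FinInd

variable {n : ℕ}

/-- `f_*` detects `Cn n`, `f` finite. -/
theorem cn_of_cn_push {X Y : Scheme.{u}} (f : X ⟶ Y) [IsFinite f] [IsLocallyNoetherian X] {F : EtCoh.Ab X}
    (h : Cn n Y ((EtCoh.push f).obj F)) : Cn n X F := by
  have := Groth.Agent.Etbase.StalkPush.faithful_push f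
  have hepi : Epi ((EtCoh.pullPushAdj f).counit.app F) := inferInstance
  exact Cn.of_epi ((EtCoh.pullPushAdj f).counit.app F) (cn_pull f h)

theorem preservesFiniteColimits_push {X Y : Scheme.{u}} (f : X ⟶ Y) [IsFinite f] :
    PreservesFiniteColimits (EtCoh.push f) :=
  (Groth.Agent.Etbase.FinLiftSch.refines_of_isFinite (f := f)).preservesFiniteColimits

/-- Étale base change. -/
theorem rpush_etale {X Y X' Y' : Scheme.{u}} {f : X ⟶ Y} {g : Y' ⟶ Y} {f' : X' ⟶ Y'} {g' : X' ⟶ X}
    (h : IsPullback g' f' f g) [Etale g] (F : EtCoh.Ab X) (q : ℕ) :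
    Nonempty ((EtCoh.pull g).obj ((EtCoh.Rpush f q).obj F) ≅
      (EtCoh.Rpush f' q).obj ((EtCoh.pull g').obj F)) :=
  GSq.nonempty_baseChange_iso F (GSq.bc_of_etale h _) q

theorem isPullback_of_mono {C : Type*} [Category* C] {X U Y : C} (f : X ⟶ U) (j : U ⟶ Y) [Mono j] :
    IsPullback (𝟙 X) f (f ≫ j) j :=
  ⟨⟨by simp⟩, ⟨PullbackCone.IsLimit.mk _ (fun s => s.fst) (fun s => Category.comp_id _)
    (fun s => by rw [← cancel_mono j, Category.assoc, s.condition])
    (fun s m h _ => by rw [← h, Category.comp_id])⟩⟩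

/-- Direct images of constant sheaves after an open immersion in the target. -/
theorem cn_rpush_of_open {X U Y : Scheme.{u}} (f : X ⟶ U) (j : U ⟶ Y) [IsOpenImmersion j] (M : Type)
    [AddCommGroup M] (q : ℕ) (h : Cn n Y ((EtCoh.Rpush (f ≫ j) q).obj (EtCoh.const X M))) :
    Cn n U ((EtCoh.Rpush f q).obj (EtCoh.const X M)) := by
  obtain ⟨e⟩ := rpush_etale (isPullback_of_mono f j) (EtCoh.const X M) q
  exact Cn.iso (e ≪≫ (EtCoh.Rpush f q).mapIso (EtCore.pullConst (𝟙 X) M)) (cn_pull j h)

section core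

variable {A : Type u} [CommRing A] [IsNoetherianRing A] (g : A) (C : Type u) [CommRing C] [Algebra A C]
  [Algebra (Localization.Away g) C] [IsScalarTower A (Localization.Away g) C]
  [Module.Finite (Localization.Away g) C] (M : Type) [AddCommGroup M] [Finite M] (hM : ∀ x : M, n • x = 0)

include g in
omit [IsNoetherianRing A] in
/-- `A ⟶ C` is of finite type. -/
theorem finiteType : (algebraMap A C).FiniteType := by
  rw [IsScalarTower.algebraMap_eq A (Localization.Away g) C]
  refine RingHom.FiniteType.comp ?_ ?_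
  · exact RingHom.Finite.finiteType (RingHom.finite_algebraMap.2 inferInstance)
  · have : Algebra.FiniteType A (Localization.Away g) :=
      IsLocalization.finiteType_of_monoid_fg (Submonoid.powers g) _
    exact RingHom.finiteType_algebraMap.2 this

include g in
omit [Algebra A C] [IsScalarTower A (Localization.Away g) C] in
theorem isNoetherianRing : IsNoetherianRing C := by
  have h1 : IsNoetherianRing (Localization.Away g) := IsLocalization.isNoetherianRing (Submonoid.powers g) _ inferInstance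
  exact IsNoetherianRing.of_finite (Localization.Away g) C

theorem range_quotient (B : Type u) [CommRing B] (b : B) :
    Set.range (Spec.map (CommRingCat.ofHom (Ideal.Quotient.mk (Ideal.span {b})))) =
      (Set.range (Spec.map (CommRingCat.ofHom (algebraMap B (Localization.Away b)))))ᶜ := by
  have h1 : Set.range (PrimeSpectrum.comap (Ideal.Quotient.mk (Ideal.span {b}))) =
      PrimeSpectrum.zeroLocus {b} := by
    rw [range_comap_of_surjective _ _ Ideal.Quotient.mk_surjective, Ideal.mk_ker,
      PrimeSpectrum.zeroLocus_span]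
  have h2 : Set.range (PrimeSpectrum.comap (algebraMap B (Localization.Away b))) =
      (PrimeSpectrum.basicOpen b : Set (PrimeSpectrum B)) :=
    PrimeSpectrum.localization_away_comap_range _ b
  have h3 : Set.range (Spec.map (CommRingCat.ofHom (Ideal.Quotient.mk (Ideal.span {b})))) =
      PrimeSpectrum.zeroLocus {b} := h1
  have h4 : Set.range (Spec.map (CommRingCat.ofHom (algebraMap B (Localization.Away b)))) =
      (PrimeSpectrum.basicOpen b : Set (PrimeSpectrum B)) := h2
  rw [h3, h4, PrimeSpectrum.basicOpen_eq_zeroLocus_compl]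
  exact (compl_compl _).symm

include g hM in
/-- The devissage `C[1/w] ⊂ C`. -/
theorem cn_core (w : A) (hfin : FinDVR.Fin n (Spec (CommRingCat.of (A ⧸ Ideal.span {w}))))
    (hw : ∀ q : ℕ, Cn n (Spec (CommRingCat.of A)) ((EtCoh.Rpush (Spec.map (CommRingCat.ofHom
      (algebraMap A (Localization.Away (algebraMap A C w))))) q).obj (EtCoh.const _ M))) (q : ℕ) :
    Cn n (Spec (CommRingCat.of A))
      ((EtCoh.Rpush (Spec.map (CommRingCat.ofHom (algebraMap A C))) q).obj (EtCoh.const _ M)) := by
  have hCN : IsNoetherianRing C := isNoetherianRing g C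
  let b : C := algebraMap A C w
  let f : Spec (CommRingCat.of C) ⟶ Spec (CommRingCat.of A) := Spec.map (CommRingCat.ofHom (algebraMap A C))
  let j : Spec (CommRingCat.of (Localization.Away b)) ⟶ Spec (CommRingCat.of C) :=
    Spec.map (CommRingCat.ofHom (algebraMap C (Localization.Away b)))
  let i : Spec (CommRingCat.of (C ⧸ Ideal.span {b})) ⟶ Spec (CommRingCat.of C) :=
    Spec.map (CommRingCat.ofHom (Ideal.Quotient.mk (Ideal.span {b})))
  let iY : Spec (CommRingCat.of (A ⧸ Ideal.span {w})) ⟶ Spec (CommRingCat.of A) :=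
    Spec.map (CommRingCat.ofHom (Ideal.Quotient.mk (Ideal.span {w})))
  have hle : Ideal.span {w} ≤ (Ideal.span {b}).comap (algebraMap A C) := by
    rw [Ideal.span_le, Set.singleton_subset_iff]
    exact Ideal.mem_comap.2 (Ideal.subset_span rfl)
  let φ₀ : (A ⧸ Ideal.span {w}) →+* (C ⧸ Ideal.span {b}) := Ideal.quotientMap _ (algebraMap A C) hle
  let f₀ : Spec (CommRingCat.of (C ⧸ Ideal.span {b})) ⟶ Spec (CommRingCat.of (A ⧸ Ideal.span {w})) :=
    Spec.map (CommRingCat.ofHom φ₀)
  have hφ₀ : φ₀.comp (Ideal.Quotient.mk (Ideal.span {w})) =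
      (Ideal.Quotient.mk (Ideal.span {b})).comp (algebraMap A C) :=
    Ideal.quotientMap_comp_mk (J := Ideal.span {w}) (I := Ideal.span {b}) hle
  have hi : IsClosedImmersion i := IsClosedImmersion.spec_of_surjective _ Ideal.Quotient.mk_surjective
  have hiY : IsClosedImmersion iY := IsClosedImmersion.spec_of_surjective _ Ideal.Quotient.mk_surjective
  have hj : IsOpenImmersion j := inferInstance
  have hft : φ₀.FiniteType := by
    refine RingHom.FiniteType.of_comp_finiteType (f := Ideal.Quotient.mk (Ideal.span {w})) ?_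
    rw [hφ₀]
    exact RingHom.FiniteType.comp
      (RingHom.FiniteType.of_surjective (Ideal.Quotient.mk (Ideal.span {b})) Ideal.Quotient.mk_surjective)
      (finiteType g C)
  have hf₀ : LocallyOfFiniteType f₀ := by
    exact (HasRingHomProperty.Spec_iff (P := @LocallyOfFiniteType)).2 hft
  have hsq : i ≫ f = f₀ ≫ iY := by
    rw [← Spec.map_comp, ← Spec.map_comp, ← CommRingCat.ofHom_comp, ← CommRingCat.ofHom_comp, hφ₀]
  have hjf : j ≫ f = Spec.map (CommRingCat.ofHom (algebraMap A (Localization.Away b))) := by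
    rw [← Spec.map_comp, ← CommRingCat.ofHom_comp, ← IsScalarTower.algebraMap_eq]
  refine Dev.cn_rpush_one j i (range_quotient C b) f iY f₀ hsq ?_ (EtCoh.const _ M) (cn_const _ M hM) ?_ ?_ q
  · intro G hG q
    exact hfin f₀ (𝟙 _) f₀ (Category.comp_id _) G hG q
  · intro q
    -- `π : Spec C ⟶ D(g)` is finite
    let π : Spec (CommRingCat.of C) ⟶ Spec (CommRingCat.of (Localization.Away g)) :=
      Spec.map (CommRingCat.ofHom (algebraMap (Localization.Away g) C))
    have hπ : IsFinite π := by
      rw [IsFinite.SpecMap_iff]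
      exact RingHom.finite_algebraMap.2 inferInstance
    have hπf : π ≫ Defs.jg g = f := by
      rw [← Spec.map_comp, ← CommRingCat.ofHom_comp, ← IsScalarTower.algebraMap_eq]
    have h1 : (j ≫ π) ≫ Defs.jg g = Spec.map (CommRingCat.ofHom (algebraMap A (Localization.Away b))) := by
      rw [Category.assoc, hπf, hjf]
    have h2 : Cn n _ ((EtCoh.Rpush (j ≫ π) q).obj (EtCoh.const _ M)) := by
      refine cn_rpush_of_open (j ≫ π) (Defs.jg g) M q ?_
      exact Cn.iso ((rpushCongr h1 q).symm.app _) (hw q)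
    have h3 : PreservesFiniteColimits (EtCoh.push π) := preservesFiniteColimits_push π
    have h4 : Cn n _ ((EtCoh.Rpush j q).obj (EtCoh.const _ M)) :=
      cn_of_cn_push π (Cn.iso (rpushExactIso j π (EtCoh.const _ M) q) h2)
    exact Cn.iso ((EtCoh.Rpush j q).mapIso (EtCore.pullConst j M).symm) h4
  · intro q
    exact Cn.iso ((rpushCongr hjf q).symm.app _ ≪≫
      (EtCoh.Rpush (j ≫ f) q).mapIso (EtCore.pullConst j M).symm) (hw q)

include g hM in
/-- The non-dominant case. -/
theorem cn_of_factor (w : A) (hw : algebraMap A C w = 0)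
    (hfin : FinDVR.Fin n (Spec (CommRingCat.of (A ⧸ Ideal.span {w})))) (q : ℕ) :
    Cn n (Spec (CommRingCat.of A))
      ((EtCoh.Rpush (Spec.map (CommRingCat.ofHom (algebraMap A C))) q).obj (EtCoh.const _ M)) := by
  let φ₀ : (A ⧸ Ideal.span {w}) →+* C := Ideal.Quotient.lift _ (algebraMap A C) (by
    intro a ha
    obtain ⟨c, rfl⟩ := Ideal.mem_span_singleton'.1 ha
    rw [map_mul, hw, mul_zero])
  have hφ₀ : φ₀.comp (Ideal.Quotient.mk (Ideal.span {w})) = algebraMap A C := by
    ext a
    rfl
  let iY : Spec (CommRingCat.of (A ⧸ Ideal.span {w})) ⟶ Spec (CommRingCat.of A) :=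
    Spec.map (CommRingCat.ofHom (Ideal.Quotient.mk (Ideal.span {w})))
  let f₀ : Spec (CommRingCat.of C) ⟶ Spec (CommRingCat.of (A ⧸ Ideal.span {w})) :=
    Spec.map (CommRingCat.ofHom φ₀)
  have hiY : IsClosedImmersion iY := IsClosedImmersion.spec_of_surjective _ Ideal.Quotient.mk_surjective
  have hft : φ₀.FiniteType := by
    refine RingHom.FiniteType.of_comp_finiteType (f := Ideal.Quotient.mk (Ideal.span {w})) ?_
    rw [hφ₀]
    exact finiteType g C
  have hf₀ : LocallyOfFiniteType f₀ := by
    exact (HasRingHomProperty.Spec_iff (P := @LocallyOfFiniteType)).2 hft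
  have hsq : f₀ ≫ iY = Spec.map (CommRingCat.ofHom (algebraMap A C)) := by
    rw [← Spec.map_comp, ← CommRingCat.ofHom_comp, hφ₀]
  have h1 : Cn n _ ((EtCoh.Rpush f₀ q).obj (EtCoh.const _ M)) :=
    hfin f₀ (𝟙 _) f₀ (Category.comp_id _) _ (cn_const _ M hM) q
  have h3 : PreservesFiniteColimits (EtCoh.push iY) := preservesFiniteColimits_push iY
  have h2 : Cn n _ ((EtCoh.Rpush (f₀ ≫ iY) q).obj (EtCoh.const _ M)) :=
    Cn.iso (rpushExactIso f₀ iY (EtCoh.const _ M) q).symm (cn_push_closed iY h1)
  exact Cn.iso ((rpushCongr hsq q).app _) h2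

end core

end Groth.Agent.Etdl.H434.Core
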