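import Groth.Agent.Sga4h.ConsWO
import Groth.Agent.EtpbcB.RDerLES
import Groth.Agent.Etcore.PullJoint
import Groth.Agent.Etrest.ConstBasic
import Groth.Agent.Etbase.FinLiftSch
import Groth.Prelude.Def_EtCore

/-!
# Embedding devissage for `R^q h_*`

* `cn_rpush_of_mono`: `G ⟶ P` a monomorphism with cokernel `Q`; `R^{q-1} h_* Q ∈ Cn n` and
  `R^q h_* P ∈ Cn n` imply `R^q h_* G ∈ Cn n`.
* `mono_lift_unit`: `F ⟶ ⨁ c_{i*} c_i^* F` is a monomorphism for a finite jointly surjective family.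
-/

set_option autoImplicit false
universe v u w
open CategoryTheory CategoryTheory.Limits AlgebraicGeometry Opposite

namespace Groth.Agent.Etdl.H434.Emb

open Groth.Agent.Sga4h.WayOut Groth.Agent.Sga4h.ConsWO Groth.Agent.Sga4h.PushDer
open Groth.Agent.EtpbcB

section Serre

variable {B : Type u} [Category.{v} B] [Abelian B] {Q : ObjectProperty B} (hQ : WeakSerre Q)
  (hsub : ∀ {F G : B} (ι : G ⟶ F) [Mono ι], Q F → Q G)

include hQ hsub

theorem of_epi {F G : B} (p : F ⟶ G) [Epi p] (h : Q F) : Q G := by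
  have h2 : Q (Abelian.coimage p) := hQ.coker (kernel.ι p) (hsub (kernel.ι p) h) h
  have : IsIso (Abelian.factorThruCoimage p) := isIso_of_mono_of_epi _
  exact hQ.iso (asIso (Abelian.factorThruCoimage p)) h2

/-- The middle term of an exact sequence. -/
theorem mid (S : ShortComplex B) (hS : S.Exact) (h1 : Q S.X₁) (h3 : Q S.X₃) : Q S.X₂ := by
  have e1 : Epi (kernel.lift S.g S.f S.zero) := hS.epi_kernelLift
  have h1' : Q (kernel S.g) := of_epi hQ hsub (kernel.lift S.g S.f S.zero) h1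
  have h3' : Q (Abelian.coimage S.g) := hsub (Abelian.factorThruCoimage S.g) h3
  have hS' : (ShortComplex.mk (kernel.ι S.g) (cokernel.π (kernel.ι S.g))
      (cokernel.condition _)).ShortExact :=
    { exact := ShortComplex.exact_of_g_is_cokernel _ (cokernelIsCokernel _)
      mono_f := inferInstance
      epi_g := inferInstance }
  exact hQ.ext (ShortComplex.mk (kernel.ι S.g) (cokernel.π (kernel.ι S.g)) (cokernel.condition _)) hS' h1' h3'

theorem of_jointly_mono {ι : Type*} (t : Finset ι) (f : ι → B) (hf : ∀ i ∈ t, Q (f i)) :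
    ∀ (G : B) (π : ∀ i, G ⟶ f i), (∀ {K : B} (k : K ⟶ G), (∀ i ∈ t, k ≫ π i = 0) → k = 0) → Q G := by
  classical
  induction t using Finset.induction_on with
  | empty =>
    intro G π h
    refine hQ.zero G ?_
    rw [IsZero.iff_id_eq_zero]
    exact h _ (by simp)
  | @insert a t ha ih =>
    intro G π h
    have h1 : Q (kernel (π a)) := by
      refine ih (fun i hi => hf i (Finset.mem_insert_of_mem hi)) _ (fun i => kernel.ι (π a) ≫ π i)
        fun k hk => ?_
      rw [← cancel_mono (kernel.ι (π a)), zero_comp]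
      refine h _ fun i hi => ?_
      rcases Finset.mem_insert.1 hi with rfl | hi
      · rw [Category.assoc, kernel.condition, comp_zero]
      · rw [Category.assoc]
        exact hk i hi
    exact mid hQ hsub (ShortComplex.mk (kernel.ι (π a)) (π a) (kernel.condition _))
      (ShortComplex.exact_of_f_is_kernel _ (kernelIsKernel _)) h1
      (hf a (Finset.mem_insert_self _ _))

theorem biproduct [HasFiniteBiproducts B] {r : ℕ} (f : Fin r → B) (hf : ∀ i, Q (f i)) : Q (⨁ f) :=
  of_jointly_mono hQ hsub Finset.univ f (fun i _ => hf i) _ (biproduct.π f)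
    fun k hk => biproduct.hom_ext _ _ fun i => by rw [hk i (Finset.mem_univ i), zero_comp]

end Serre

variable {n : ℕ} {X Y : Scheme.{u}}

theorem Cn.of_epi [IsLocallyNoetherian X] {F G : EtCoh.Ab X} (p : F ⟶ G) [Epi p] (h : Cn n X F) :
    Cn n X G :=
  Emb.of_epi (weakSerre_Cn n X) (fun ι _ => Cn.of_mono ι) p h

theorem Cn.mid [IsLocallyNoetherian X] (S : ShortComplex (EtCoh.Ab X)) (hS : S.Exact)
    (h1 : Cn n X S.X₁) (h3 : Cn n X S.X₃) : Cn n X S.X₂ :=
  Emb.mid (weakSerre_Cn n X) (fun ι _ => Cn.of_mono ι) S hS h1 h3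

theorem killedBy_dvd {F : EtCoh.Ab X} {a b : ℕ} (hab : a ∣ b) (h : EtCoh.KilledBy a F) :
    EtCoh.KilledBy b F := by
  obtain ⟨c, rfl⟩ := hab
  intro U s
  rw [mul_comm, mul_smul, h U s, smul_zero]

theorem Cn.of_dvd {m : ℕ} (hnm : n ∣ m) {F : EtCoh.Ab X} (h : Cn n X F) : Cn m X F :=
  ⟨h.1, h.2.imp fun k hk => killedBy_dvd (pow_dvd_pow_of_dvd hnm k) hk⟩

/-- Change of the torsion bound for the direct images. -/
theorem cn_rpush_of_dvd (h : X ⟶ Y) {m : ℕ} {F : EtCoh.Ab X} (hF : Cn n X F) (q : ℕ)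
    (hm : Cn m Y ((EtCoh.Rpush h q).obj F)) : Cn n Y ((EtCoh.Rpush h q).obj F) :=
  ⟨hm.1, hF.2.imp fun _ hk => killedBy_rpush h hk q⟩

/-- Embedding devissage. -/
theorem cn_rpush_of_mono [IsLocallyNoetherian Y] (h : X ⟶ Y) {G P : EtCoh.Ab X} (ι : G ⟶ P) [Mono ι]
    (q : ℕ) (h0 : ∀ p, p + 1 = q → Cn n Y ((EtCoh.Rpush h p).obj (cokernel ι)))
    (h1 : Cn n Y ((EtCoh.Rpush h q).obj P)) : Cn n Y ((EtCoh.Rpush h q).obj G) := by
  have hS : (ShortComplex.mk ι (cokernel.π ι) (cokernel.condition ι)).ShortExact :=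
    { exact := ShortComplex.exact_of_g_is_cokernel _ (cokernelIsCokernel _)
      mono_f := inferInstance
      epi_g := inferInstance }
  cases q with
  | zero =>
    have e : ∀ F, (EtCoh.Rpush h 0).obj F ≅ (EtCoh.push h).obj F := fun F => (rpushZeroIso h).app F
    have : Mono ((EtCoh.push h).map ι) := inferInstance
    exact Cn.iso (e G).symm (Cn.of_mono ((EtCoh.push h).map ι) (Cn.iso (e P) h1))
  | succ p =>
    exact Cn.mid (ShortComplex.mk _ _ (RDerLES.δ_comp (EtCoh.push h) hS p))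
      (RDerLES.exact₁ (EtCoh.push h) hS p) (h0 p rfl) h1

/-- Finite direct sums. -/
theorem cn_rpush_biproduct [IsLocallyNoetherian Y] (h : X ⟶ Y) {r : ℕ} (P : Fin r → EtCoh.Ab X) (q : ℕ)
    (hP : ∀ i, Cn n Y ((EtCoh.Rpush h q).obj (P i))) : Cn n Y ((EtCoh.Rpush h q).obj (⨁ P)) := by
  have : (EtCoh.Rpush h q).Additive := inferInstance
  have e : (EtCoh.Rpush h q).obj (⨁ P) ≅ ⨁ fun i => (EtCoh.Rpush h q).obj (P i) :=
    (EtCoh.Rpush h q).mapBiproduct P
  exact Cn.iso e.symm (Emb.biproduct (weakSerre_Cn n Y) (fun ι _ => Cn.of_mono ι) _ hP)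

section unit

variable {T : Scheme.{u}} {r : ℕ} {Z : Fin r → Scheme.{u}} (c : ∀ i, Z i ⟶ T)
  (hc : ∀ x : T, ∃ (i : Fin r) (y : Z i), (c i) y = x)

include hc in
theorem mono_lift_unit (F : EtCoh.Ab T) :
    Mono (biproduct.lift (f := fun i => (EtCoh.push (c i)).obj ((EtCoh.pull (c i)).obj F))
      (fun i => (EtCoh.pullPushAdj (c i)).unit.app F)) := by
  refine Groth.Agent.Etcore.PullJoint.mono_of_pull c hc _ fun i => ?_
  have h1 : (EtCoh.pull (c i)).map (biproduct.lift
      (f := fun i => (EtCoh.push (c i)).obj ((EtCoh.pull (c i)).obj F))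
      (fun i => (EtCoh.pullPushAdj (c i)).unit.app F)) ≫
      (EtCoh.pull (c i)).map (biproduct.π (fun i => (EtCoh.push (c i)).obj ((EtCoh.pull (c i)).obj F)) i) ≫
      (EtCoh.pullPushAdj (c i)).counit.app ((EtCoh.pull (c i)).obj F) =
        𝟙 ((EtCoh.pull (c i)).obj F) := by
    rw [← Functor.map_comp_assoc]
    refine Eq.trans ?_ ((EtCoh.pullPushAdj (c i)).left_triangle_components F)
    congr 2
    exact biproduct.lift_π _ i
  exact (SplitMono.mk _ h1).mono

end unit

end Groth.Agent.Etdl.H434.Emb
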