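import Groth.Agent.Etdl.H434.Defs
import Groth.Agent.Etdl.H434.Dev
import Groth.Agent.Sga4h.FinMain2

/-!
# `FT 0`: finiteness over a field of characteristic zero
-/

set_option autoImplicit false
universe u
open CategoryTheory CategoryTheory.Limits AlgebraicGeometry Opposite

namespace Groth.Agent.Etdl.H434.T0

theorem C_surjective (K : Type u) [Field K] :
    Function.Surjective (MvPowerSeries.C (σ := Fin 0) : K →+* MvPowerSeries (Fin 0) K) := by
  intro f
  refine ⟨MvPowerSeries.constantCoeff f, ?_⟩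
  ext n
  obtain rfl : n = 0 := Subsingleton.elim _ _
  simp

theorem isUnit_natCast_Γ (K : Type u) [Field K] [CharZero K] (n : ℕ) (hn : 0 < n) :
    IsUnit (n : Γ(Spec (CommRingCat.of K), ⊤)) := by
  have h1 : IsUnit (n : K) := (Nat.cast_ne_zero.2 hn.ne').isUnit
  have h2 := h1.map (Scheme.ΓSpecIso (CommRingCat.of K)).inv.hom
  rwa [map_natCast] at h2

/-- `FT 0`. -/
theorem ft_zero : Defs.FT.{u} 0 := by
  intro K _ _ n hn
  have h1 := Groth.Agent.Sga4h.FinMain2.fin_field (n := n) K (isUnit_natCast_Γ K n hn)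
  have h2 : LocallyOfFiniteType (Spec.map (CommRingCat.ofHom
      (MvPowerSeries.C (σ := Fin 0) : K →+* MvPowerSeries (Fin 0) K))) :=
    (HasRingHomProperty.Spec_iff (P := @LocallyOfFiniteType)).2
      (RingHom.FiniteType.of_surjective _ (C_surjective K))
  exact Dev.fin_of_finiteType h1 (Spec.map (CommRingCat.ofHom
    (MvPowerSeries.C (σ := Fin 0) : K →+* MvPowerSeries (Fin 0) K)))

end Groth.Agent.Etdl.H434.T0
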