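import Groth.Agent.Sga4h.StalkAcyc
import Groth.Agent.Sga4h.GSqEt
import Groth.Agent.Etrest.HPush
import Groth.Agent.EtpbcB.GeomPointIndep

/-!
# Finiteness of cohomology over a strictly local base from the constructibility of direct images
-/

set_option autoImplicit false
universe u
open CategoryTheory CategoryTheory.Limits AlgebraicGeometry Opposite IsLocalRing

namespace Groth.Agent.Etdl.H434.FinH

open Groth.Agent.Sga4h

/-- Cohomology and isomorphisms. -/
theorem nonempty_H_iso {X' X : Scheme.{u}} (e : X' ⟶ X) [IsIso e] (F : EtCoh.Ab X) (q : ℕ) :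
    Nonempty (EtCoh.H X F q ≃+ EtCoh.H X' ((EtCoh.pull e).obj F) q) := by
  have he : (EtCoh.pull e).IsEquivalence := GSq.isEquivalence_pull_of_isIso e
  obtain ⟨e1⟩ := Groth.Agent.Etrest.HPush.nonempty_HPushEquiv_of_isFinite e ((EtCoh.pull e).obj F) q
  have e2 : F ≅ (EtCoh.push e).obj ((EtCoh.pull e).obj F) := asIso ((EtCoh.pullPushAdj e).unit.app F)
  exact ⟨((EtCoh.HF X q).mapIso e2).addCommGroupIsoToAddEquiv.trans e1.symm⟩

/-- Finiteness of `H^q(X, F)` over a strictly local base. -/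
theorem finite_H (R : Type u) [CommRing R] [HenselianLocalRing R] [IsSepClosed (ResidueField R)]
    {X : Scheme.{u}} (f : X ⟶ Spec (CommRingCat.of R)) [QuasiCompact f] [QuasiSeparated f] (F : EtCoh.Ab X)
    (q : ℕ) (h : EtPBC.IsConstructible ((EtCoh.Rpush f q).obj F)) : Finite (EtCoh.H X F q) := by
  obtain ⟨e⟩ := StalkAcyc.nonempty_stalk_iso f F (SLoc.isStrictLoc_id R) q
  have h1 := Groth.Agent.EtpbcB.GeomPointIndep.finite_stalk_of_constructible
    (Groth.Agent.Etrest.StrictLoc.resPt R ≫ 𝟙 (Spec (CommRingCat.of R))) _ h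
  have h2 : Finite (EtCoh.H (pullback f (𝟙 (Spec (CommRingCat.of R))))
      ((EtCoh.pull (pullback.fst f (𝟙 (Spec (CommRingCat.of R))))).obj F) q) :=
    Finite.of_equiv _ e.addCommGroupIsoToAddEquiv.toEquiv
  obtain ⟨e'⟩ := nonempty_H_iso (pullback.fst f (𝟙 (Spec (CommRingCat.of R)))) F q
  exact Finite.of_equiv _ e'.symm.toEquiv

end Groth.Agent.Etdl.H434.FinH
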