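import Groth.Agent.Etdl.H434.FinH
import Groth.Agent.Etdl.H434.Defs
import Groth.Agent.Etdl.H428.PowSer

/-!
# Finiteness of the cohomology of schemes of finite type over `k[[x_1, …, x_m]]`, from `FT m`
-/

set_option autoImplicit false
universe u
open CategoryTheory CategoryTheory.Limits AlgebraicGeometry Opposite

namespace Groth.Agent.Etdl.H434.OfFT

/-- Finiteness of the cohomology over `k[[x_1, …, x_m]]`, `k` algebraically closed of characteristic zero. -/
theorem finite_H {m : ℕ} (h : Defs.FT.{u} m) (k : Type u) [Field k] [IsAlgClosed k] [CharZero k]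
    {X : Scheme.{u}} (f : X ⟶ Spec (CommRingCat.of (MvPowerSeries (Fin m) k)))
    [LocallyOfFiniteType f] [QuasiCompact f]
    (F : EtCoh.Ab X) (hF : EtPBC.IsConstructible F) (n : ℕ) (hn : 0 < n) (hFn : EtCoh.KilledBy n F) (q : ℕ) :
    Finite (EtCoh.H X F q) := by
  have h1 : HenselianLocalRing (MvPowerSeries (Fin m) k) := Groth.Agent.Etdl.H428.PowSer.henselian k m
  have h2 : IsSepClosed (IsLocalRing.ResidueField (MvPowerSeries (Fin m) k)) :=
    Groth.Agent.Etdl.H428.PowSer.isSepClosed_residueField k m
  have hN : IsNoetherianRing (MvPowerSeries (Fin m) k) := inferInstance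
  have hX : IsLocallyNoetherian X := LocallyOfFiniteType.isLocallyNoetherian f
  have h3 : QuasiSeparated f := inferInstance
  refine FinH.finite_H _ f F q ?_
  exact (h k n hn f (𝟙 _) f (Category.comp_id f) F ⟨hF, 1, by rwa [pow_one]⟩ q).1

end Groth.Agent.Etdl.H434.OfFT
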