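import Groth.Agent.Etdl.H434.Core

/-!
# `SO (m + 1)` from the case of integral affine schemes
-/

set_option autoImplicit false
universe u
open CategoryTheory CategoryTheory.Limits AlgebraicGeometry Opposite

namespace Groth.Agent.Etdl.H434.SOAux

open Groth.Agent.Sga4h Groth.Agent.Sga4h.WayOut Groth.Agent.Sga4h.ConsWO Groth.Agent.Sga4h.PushDer
open Groth.Agent.Sga4h.FinD Emb FinInd Groth.Agent.Etdl.H434.Core

/-- Direct images of constant sheaves along a composite with an isomorphism. -/
theorem cn_rpush_iso_comp {n : ℕ} {Z' Z Y : Scheme.{u}} (e : Z' ⟶ Z) [IsIso e] (f : Z ⟶ Y) (M : Type)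
    [AddCommGroup M] (q : ℕ) (h : Cn n Y ((EtCoh.Rpush f q).obj (EtCoh.const Z M))) :
    Cn n Y ((EtCoh.Rpush (e ≫ f) q).obj (EtCoh.const Z' M)) := by
  have he : (EtCoh.pull e).IsEquivalence := GSq.isEquivalence_pull_of_isIso e
  have h1 : EtCoh.const Z M ≅ (EtCoh.push e).obj (EtCoh.const Z' M) :=
    asIso ((EtCoh.pullPushAdj e).unit.app (EtCoh.const Z M)) ≪≫
      (EtCoh.push e).mapIso (EtCore.pullConst e M)
  exact Cn.iso ((EtCoh.Rpush f q).mapIso h1 ≪≫ rpushFinite e f (EtCoh.const Z' M) q) h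

/-- `R^q (D(g) ⟶ Spec A)_*` preserves `Cn n`, from the case of integral affine schemes finite over `D(g)`. -/
theorem cn_rpush_jg {A : Type u} [CommRing A] [IsNoetherianRing A] (g : A)
    (core : ∀ (C : Type u) [CommRing C] [IsDomain C] [Algebra A C] [Algebra (Localization.Away g) C]
      [IsScalarTower A (Localization.Away g) C] [Module.Finite (Localization.Away g) C]
      (M : Type) [AddCommGroup M] [Finite M] (n : ℕ), 0 < n → (∀ m : M, n • m = 0) → ∀ q : ℕ,
      Cn n (Spec (CommRingCat.of A)) ((EtCoh.Rpush (Spec.map (CommRingCat.ofHom (algebraMap A C))) q).obj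
        (EtCoh.const _ M))) (q n : ℕ) (hn : 0 < n)
    (G : EtCoh.Ab (Spec (CommRingCat.of (Localization.Away g)))) (hG : Cn n _ G) :
    Cn n (Spec (CommRingCat.of A)) ((EtCoh.Rpush (Defs.jg g) q).obj G) := by
  have : IsNoetherianRing (Localization.Away g) :=
    IsLocalization.isNoetherianRing (Submonoid.powers g) _ inferInstance
  have hN : AlgebraicGeometry.IsNoetherian (Spec (CommRingCat.of (Localization.Away g))) := inferInstance
  refine FinInd.cn_rpush (Defs.jg g) ?_ q n hn G hG
  intro Z _ t _ M _ _ n hn hM q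
  have hZ : IsAffine Z := isAffine_of_isAffineHom t
  -- `Z = Spec C`
  let C : Type u := Γ(Z, ⊤)
  let φ : CommRingCat.of (Localization.Away g) ⟶ Γ(Z, ⊤) := Spec.preimage (Z.isoSpec.inv ≫ t)
  have hφ : Spec.map φ = Z.isoSpec.inv ≫ t := Spec.map_preimage _
  have hfin : φ.hom.Finite := by
    rw [← IsFinite.SpecMap_iff, hφ]
    infer_instance
  let _ : Algebra (Localization.Away g) C := φ.hom.toAlgebra
  let _ : Algebra A C := (φ.hom.comp (algebraMap A (Localization.Away g))).toAlgebra
  have hST : IsScalarTower A (Localization.Away g) C := IsScalarTower.of_algebraMap_eq fun _ => rfl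
  have hfin' : Module.Finite (Localization.Away g) C := hfin
  have hdom : IsDomain C := inferInstance
  have h1 := core C M n hn hM q
  have h2 : t ≫ Defs.jg g = Z.isoSpec.hom ≫ Spec.map (CommRingCat.ofHom (algebraMap A C)) := by
    have h3 : Spec.map (CommRingCat.ofHom (algebraMap A C)) = Spec.map φ ≫ Defs.jg g := by
      rw [← Spec.map_comp]
      rfl
    rw [h3, hφ, Category.assoc, Iso.hom_inv_id_assoc]
  have h3 := cn_rpush_iso_comp Z.isoSpec.hom (Spec.map (CommRingCat.ofHom (algebraMap A C))) M q h1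
  exact Cn.iso ((rpushCongr h2 q).symm.app _) h3

/-- The same, with the finiteness over `A / h`, `h ≠ 0`, and the dominant case as inputs. -/
theorem cn_rpush_jg' {A : Type u} [CommRing A] [IsNoetherianRing A] (g : A)
    (hquot : ∀ (w : A), w ≠ 0 → ∀ n : ℕ, 0 < n → FinDVR.Fin n (Spec (CommRingCat.of (A ⧸ Ideal.span {w}))))
    (hdom : ∀ (C : Type u) [CommRing C] [IsDomain C] [Algebra A C] [Algebra (Localization.Away g) C]
      [IsScalarTower A (Localization.Away g) C] [Module.Finite (Localization.Away g) C],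
      Function.Injective (algebraMap A C) →
      ∀ (M : Type) [AddCommGroup M] [Finite M] (n : ℕ), 0 < n → (∀ m : M, n • m = 0) → ∀ q : ℕ,
      Cn n (Spec (CommRingCat.of A)) ((EtCoh.Rpush (Spec.map (CommRingCat.ofHom (algebraMap A C))) q).obj
        (EtCoh.const _ M))) (q n : ℕ) (hn : 0 < n)
    (G : EtCoh.Ab (Spec (CommRingCat.of (Localization.Away g)))) (hG : Cn n _ G) :
    Cn n (Spec (CommRingCat.of A)) ((EtCoh.Rpush (Defs.jg g) q).obj G) := by
  refine cn_rpush_jg g ?_ q n hn G hG
  intro C _ _ _ _ _ _ M _ _ n hn hM q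
  by_cases hinj : Function.Injective (algebraMap A C)
  · exact hdom C hinj M n hn hM q
  · rw [injective_iff_map_eq_zero] at hinj
    push Not at hinj
    obtain ⟨w, hw, hw0⟩ := hinj
    exact cn_of_factor g C M hM w hw (hquot w hw0 n hn) q

end Groth.Agent.Etdl.H434.SOAux
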